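import Groth.Agent.Lefpen.H709.Geo
import Groth.Prelude.Def_LefMon

/-!
# The total space of a Lefschetz pencil is smooth

For `IsPencilFibration i F G b ρ` with `X` smooth of relative dimension `n ≥ 1` over `k` and the base locus
`X ∩ V(F) ∩ V(G)` transversal, the total space `X'` is smooth of relative dimension `n` over `k`.
-/

set_option autoImplicit false
universe u

open CategoryTheory CategoryTheory.Limits AlgebraicGeometry

namespace Groth.Agent.Lefpen.H470.PencilSm

open Groth.Agent.Lefpen.H709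

variable {k : Type u} [Field k] {r n d : ℕ} {X X' : Scheme.{u}} {i : X ⟶ CohB1.ProjSpace r k}
  {F G : LefPen.Form r k d} {b : X' ⟶ X} {ρ : X' ⟶ CohB1.ProjSpace 1 k}

/-- A blow-up of a smooth scheme of relative dimension `n ≥ 1` in a transversal centre of codimension two is smooth. -/
theorem smoothOfRelDim_blowUp {S : Scheme.{u}} (hn : 1 ≤ n) (f : X ⟶ S) (hf : SmoothOfRelativeDimension n f)
    (𝓘 : X.IdealSheafData)
    (hT : (2 ≤ n ∧ SmoothOfRelativeDimension (n - 2) (𝓘.subschemeι ≫ f)) ∨ (n < 2 ∧ IsEmpty 𝓘.subscheme))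
    (hb : BlowUp.IsBlowUp b 𝓘) : SmoothOfRelativeDimension n (b ≫ f) := by
  rcases hT with ⟨h2, hs⟩ | ⟨h2, hE⟩
  · obtain ⟨m, rfl⟩ : ∃ m, n = m + (1 + 1) := ⟨n - 2, by omega⟩
    exact Geo.smooth_blowUp f 𝓘 m 1 hf (by simpa using hs) hb
  · obtain rfl : n = 0 + (0 + 1) := by omega
    have hs : SmoothOfRelativeDimension 0 (𝓘.subschemeι ≫ f) := by
      have : IsOpenImmersion (𝓘.subschemeι ≫ f) := inferInstance
      infer_instance
    exact Geo.smooth_blowUp f 𝓘 0 0 hf hs hb

/-- **The total space of a pencil with transversal base locus is smooth of relative dimension `n` over `k`.** -/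
theorem smoothOfRelDim_total (hn : 1 ≤ n) [hX : SmoothOfRelativeDimension n (i ≫ CohB1.ProjSpace.toSpec r k)]
    (hT : LefPen.Transversal k n 2 (LefPen.secToSpec i ({F, G} : Set (LefPen.Form r k d))))
    (hρ : LefMon.IsPencilFibration i F G b ρ) :
    SmoothOfRelativeDimension n (ρ ≫ CohB1.ProjSpace.toSpec 1 k) := by
  rw [hρ.2.1]
  exact smoothOfRelDim_blowUp hn (i ≫ CohB1.ProjSpace.toSpec r k) hX _ hT hρ.1

theorem smoothOfRelDim_of_isLefschetzPencil (hn : 1 ≤ n)
    [SmoothOfRelativeDimension n (i ≫ CohB1.ProjSpace.toSpec r k)] (hL : LefPen.IsLefschetzPencil k n i d F G)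
    (hρ : LefMon.IsPencilFibration i F G b ρ) :
    SmoothOfRelativeDimension n (ρ ≫ CohB1.ProjSpace.toSpec 1 k) :=
  smoothOfRelDim_total hn hL.2.1 hρ

/-- (X'sm) -/
theorem smooth_total (hn : 1 ≤ n)
    [SmoothOfRelativeDimension n (i ≫ CohB1.ProjSpace.toSpec r k)] (hL : LefPen.IsLefschetzPencil k n i d F G)
    (hρ : LefMon.IsPencilFibration i F G b ρ) :
    Smooth (ρ ≫ CohB1.ProjSpace.toSpec 1 k) :=
  have := smoothOfRelDim_of_isLefschetzPencil hn hL hρ
  SmoothOfRelativeDimension.smooth n _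

theorem smooth_total' (hn : 1 ≤ n)
    [SmoothOfRelativeDimension n (i ≫ CohB1.ProjSpace.toSpec r k)] (hL : LefPen.IsLefschetzPencil k n i d F G)
    (hρ : LefMon.IsPencilFibration i F G b ρ) :
    Smooth (b ≫ i ≫ CohB1.ProjSpace.toSpec r k) := by
  rw [← hρ.2.1]
  exact smooth_total hn hL hρ

end Groth.Agent.Lefpen.H470.PencilSm
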